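import Groth.Agent.QCoh.Pullback
import Groth.Agent.QCoh.LocFree
import Groth.Agent.QCoh.SpecFT
import Mathlib.RingTheory.LocalRing.Module

/-!
# Locally split monomorphisms are detected at field-valued points
-/

set_option autoImplicit false
set_option linter.style.haveILetI false
set_option backward.isDefEq.respectTransparency false
set_option backward.isDefEq.respectTransparency.types false

universe u

open CategoryTheory CategoryTheory.Limits AlgebraicGeometry TopologicalSpace Opposite TensorProduct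

namespace Groth.Agent.SplitFib17

variable {C D : Type*} [Category C] [Category D]

theorem splitMono_of_natIso {F G : C ⥤ D} (e : F ≅ G) {a b : C} (φ : a ⟶ b) (h : IsSplitMono (F.map φ)) :
    IsSplitMono (G.map φ) := by
  obtain ⟨⟨r, hr⟩⟩ := h.exists_splitMono
  exact IsSplitMono.mk' ⟨e.inv.app b ≫ r ≫ e.hom.app a, by
    rw [e.inv.naturality_assoc, reassoc_of% hr, Iso.inv_hom_id_app]⟩

theorem splitMono_of_arrowIso {a b a' b' : C} {φ : a ⟶ b} {φ' : a' ⟶ b'} (e : Arrow.mk φ ≅ Arrow.mk φ')
    (h : IsSplitMono φ) : IsSplitMono φ' := by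
  obtain ⟨⟨r, hr⟩⟩ := h.exists_splitMono
  have hw : e.inv.left ≫ φ = φ' ≫ e.inv.right := e.inv.w
  exact IsSplitMono.mk' ⟨e.inv.right ≫ r ≫ e.hom.left, by
    rw [← reassoc_of% hw, reassoc_of% hr]
    exact congrArg CommaMorphism.left e.inv_hom_id⟩

variable {X : Scheme.{u}} {F V : X.Modules} (u : F ⟶ V)

/-- The inverse image of `u` along `k` is a split monomorphism. -/
def SplitAlong {Y : Scheme.{u}} (k : Y ⟶ X) : Prop := IsSplitMono ((Scheme.Modules.pullback k).map u)

theorem splitAlong_iff {Y : Scheme.{u}} (k : Y ⟶ X) :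
    SplitAlong u k ↔ ∃ r, (Scheme.Modules.pullback k).map u ≫ r = 𝟙 _ :=
  ⟨fun h => let ⟨⟨r, hr⟩⟩ := h.exists_splitMono; ⟨r, hr⟩, fun ⟨r, hr⟩ => IsSplitMono.mk' ⟨r, hr⟩⟩

theorem SplitAlong.congr {Y : Scheme.{u}} {k k' : Y ⟶ X} (h : k = k') (hs : SplitAlong u k) : SplitAlong u k' :=
  h ▸ hs

theorem splitAlong_comp_iff {Y Y' : Scheme.{u}} (e : Y' ⟶ Y) (k : Y ⟶ X) :
    SplitAlong u (e ≫ k) ↔ SplitAlong ((Scheme.Modules.pullback k).map u) e :=
  ⟨fun h => splitMono_of_natIso (Scheme.Modules.pullbackComp e k).symm u h,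
    fun h => splitMono_of_natIso (Scheme.Modules.pullbackComp e k) u h⟩

theorem SplitAlong.comp {Y Y' : Scheme.{u}} (e : Y' ⟶ Y) {k : Y ⟶ X} (h : SplitAlong u k) :
    SplitAlong u (e ≫ k) := by
  obtain ⟨r, hr⟩ := (splitAlong_iff u k).1 h
  refine (splitAlong_comp_iff u e k).2 ((splitAlong_iff _ e).2 ⟨(Scheme.Modules.pullback e).map r, ?_⟩)
  rw [← Functor.map_comp, hr, CategoryTheory.Functor.map_id]

/-- From a split after pullback to a split on an open. -/
theorem SplitAlong.of_range {Y : Scheme.{u}} {U : X.Opens} (k : Y ⟶ X) [IsOpenImmersion k]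
    (hU : (U : Set X) ⊆ Set.range k) (h : SplitAlong u k) : SplitAlong u U.ι := by
  have hl : IsOpenImmersion.lift k U.ι (by rw [Scheme.Opens.range_ι]; exact hU) ≫ k = U.ι :=
    IsOpenImmersion.lift_fac _ _ _
  exact SplitAlong.congr u hl (h.comp u _)

/-- A split at a field-valued point gives a split on a standard open around its image. -/
theorem exists_smul_retraction {R : Type u} [CommRing R] {M N : Type u} [AddCommGroup M] [Module R M]
    [Module.Finite R M] [AddCommGroup N] [Module R N] [Module.Finite R N] [Module.Free R N] (φ : M →ₗ[R] N)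
    (P : Ideal R) [P.IsPrime] {K : Type u} [Field K] [Algebra R K]
    (hP : RingHom.ker (algebraMap R K) = P) (h : Function.Injective (φ.lTensor K)) :
    ∃ h₀, h₀ ∉ P ∧ ∃ r : N →ₗ[R] M, r ∘ₗ φ = h₀ • LinearMap.id := by
  classical
  let RP := Localization.AtPrime P
  let κ := P.ResidueField
  have hunit : ∀ s : P.primeCompl, IsUnit (algebraMap R K s) := fun s => by
    exact isUnit_iff_ne_zero.2 fun h0 => s.2 (hP.le h0)
  let ι : κ →ₐ[R] K := Ideal.ResidueField.liftₐ P (Algebra.ofId R K) (by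
      intro a ha
      rw [← hP] at ha
      exact ha) (fun a ha => hunit ⟨a, ha⟩)
  letI : Algebra κ K := ι.toRingHom.toAlgebra
  haveI : IsScalarTower R κ K := IsScalarTower.of_algebraMap_eq fun a => (ι.commutes a).symm
  obtain ⟨l, hl⟩ := (Algebra.linearMap κ K).exists_leftInverse_of_injective
    (LinearMap.ker_eq_bot.2 (algebraMap κ K).injective)
  have hκ : Function.Injective (φ.lTensor κ) := by
    intro a b hab
    have hsq : ∀ z, (ι.toLinearMap.rTensor N) (φ.lTensor κ z) = φ.lTensor K (ι.toLinearMap.rTensor M z) := fun z =>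
      ((LinearMap.congr_fun (LinearMap.rTensor_comp_lTensor (f := ι.toLinearMap) (g := φ)) z).trans
        (LinearMap.congr_fun (LinearMap.lTensor_comp_rTensor (f := ι.toLinearMap) (g := φ)) z).symm)
    have h1 : ι.toLinearMap.rTensor M a = ι.toLinearMap.rTensor M b := h (by rw [← hsq, ← hsq, hab])
    have hinv : (l.restrictScalars R) ∘ₗ ι.toLinearMap = LinearMap.id := LinearMap.ext fun x => LinearMap.congr_fun hl x
    have h2 := congrArg ((l.restrictScalars R).rTensor M) h1
    rwa [← LinearMap.comp_apply, ← LinearMap.comp_apply, ← LinearMap.rTensor_comp, hinv,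
      LinearMap.rTensor_id] at h2
  let φP : RP ⊗[R] M →ₗ[RP] RP ⊗[R] N := φ.baseChange RP
  have hinjP : Function.Injective (φP.lTensor (IsLocalRing.ResidueField RP)) := by
    let eM := AlgebraTensorModule.cancelBaseChange R RP RP κ M
    let eN := AlgebraTensorModule.cancelBaseChange R RP RP κ N
    have hcomm : ∀ z, eN (φP.lTensor κ z) = φ.lTensor κ (eM z) := fun z => by
      induction z using TensorProduct.induction_on with
      | zero => simp
      | add a b ha hb => simp only [map_add, ha, hb]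
      | tmul k w =>
        induction w using TensorProduct.induction_on with
        | zero => simp
        | add a b ha hb => simp only [TensorProduct.tmul_add, map_add, ha, hb]
        | tmul c m => simp [eM, eN, φP]
    intro a b hab
    exact eM.injective (hκ (by rw [← hcomm, ← hcomm]; exact congrArg eN hab))
  haveI : Module.Finite RP (RP ⊗[R] M) := inferInstance
  haveI : Module.Finite RP (RP ⊗[R] N) := inferInstance
  haveI : Module.Free RP (RP ⊗[R] N) := inferInstance
  obtain ⟨ψ, hψ⟩ := (IsLocalRing.split_injective_iff_lTensor_residueField_injective φP).2 hinjP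
  let mkM : M →ₗ[R] RP ⊗[R] M := TensorProduct.mk R RP M 1
  haveI : IsLocalizedModule P.primeCompl mkM :=
    (isLocalizedModule_iff_isBaseChange P.primeCompl RP mkM).2 (TensorProduct.isBaseChange R M RP)
  let b := Module.Free.chooseBasis R N
  haveI : Fintype (Module.Free.ChooseBasisIndex R N) := inferInstance
  obtain ⟨s, hs⟩ := IsLocalizedModule.exist_integer_multiples P.primeCompl mkM Finset.univ
    (fun i => ψ (1 ⊗ₜ[R] b i))
  choose m hm using fun i => hs i (Finset.mem_univ i)
  let r₀ : N →ₗ[R] M := b.constr R m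
  have hr₀ : ∀ n, mkM (r₀ n) = (s : R) • ψ (1 ⊗ₜ[R] n) := by
    have : mkM ∘ₗ r₀ = (s : R) • ((ψ.restrictScalars R) ∘ₗ TensorProduct.mk R RP N 1) := b.ext fun i => by
      simp only [LinearMap.comp_apply, r₀, Module.Basis.constr_basis, LinearMap.smul_apply]
      exact hm i
    exact fun n => LinearMap.congr_fun this n
  have hkill : ∀ x : M, ∃ c : P.primeCompl, c • (r₀ (φ x)) = c • ((s : R) • x) := fun x => by
    refine IsLocalizedModule.exists_of_eq (f := mkM) ?_
    rw [hr₀, map_smul]
    congr 1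
    exact LinearMap.congr_fun hψ (1 ⊗ₜ[R] x)
  obtain ⟨gens, hgens⟩ := Module.Finite.fg_top (R := R) (M := M)
  choose c hc using hkill
  let c₀ : P.primeCompl := ∏ x ∈ gens, c x
  refine ⟨(c₀ : R) * s, P.primeCompl.mul_mem c₀.2 s.2, (c₀ : R) • r₀, ?_⟩
  refine LinearMap.ext_on (s := (gens : Set M)) hgens fun x hx => ?_
  obtain ⟨d, hd⟩ := Finset.dvd_prod_of_mem c hx
  show (c₀ : R) • r₀ (φ x) = ((c₀ : R) * s) • x
  have hc₀ : (c₀ : R) = (d : R) * (c x : R) := by
    rw [mul_comm]
    exact congrArg Subtype.val hd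
  rw [hc₀, mul_smul, mul_smul, mul_smul]
  exact congrArg ((d : R) • ·) (hc x)

theorem splitMono_tilde_extendScalars_iff {R T : CommRingCat.{u}} (g : R ⟶ T) {M N : ModuleCat.{u} R} (φ : M ⟶ N) :
    SplitAlong (tilde.map φ) (Spec.map g) ↔
      IsSplitMono ((ModuleCat.extendScalars.{_, _, u} g.hom).map φ) := by
  constructor
  · intro h
    obtain ⟨⟨r, hr⟩⟩ := (splitMono_of_natIso (QCoh.tildePullbackIso g) φ h).exists_splitMono
    obtain ⟨r', hr'⟩ := (tilde.functor T).map_surjective r
    refine IsSplitMono.mk' ⟨r', (tilde.functor T).map_injective ?_⟩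
    rw [Functor.map_comp, hr', CategoryTheory.Functor.map_id]
    exact hr
  · intro h
    exact splitMono_of_natIso (QCoh.tildePullbackIso g).symm φ
      (inferInstanceAs (IsSplitMono ((tilde.functor T).map ((ModuleCat.extendScalars.{_, _, u} g.hom).map φ))))

/-- A morphism of quasi-coherent modules on a chart is the tilde of its sections. -/
theorem exists_arrowIso {R : CommRingCat.{u}} (i : Spec R ⟶ X) [IsOpenImmersion i] (hF : Coh.IsQCoh F)
    (hV : Coh.IsQCoh V) :
    Nonempty (Arrow.mk ((tilde.functor R).map (moduleSpecΓFunctor.map ((Scheme.Modules.restrictFunctor i).map u))) ≅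
      Arrow.mk ((Scheme.Modules.pullback i).map u)) := by
  haveI : IsIso ((tilde.adjunction (R := R)).counit.app ((Scheme.Modules.restrictFunctor i).obj F)) :=
    (isQuasicoherent_iff_isIso_fromTildeΓ _).1 (QCoh.isQCoh_restrict i hF)
  haveI : IsIso ((tilde.adjunction (R := R)).counit.app ((Scheme.Modules.restrictFunctor i).obj V)) :=
    (isQuasicoherent_iff_isIso_fromTildeΓ _).1 (QCoh.isQCoh_restrict i hV)
  let u' := (Scheme.Modules.restrictFunctor i).map u
  refine ⟨(Arrow.isoMk' ((tilde.functor R).map (moduleSpecΓFunctor.map u')) u'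
      (asIso ((tilde.adjunction (R := R)).counit.app ((Scheme.Modules.restrictFunctor i).obj F)))
      (asIso ((tilde.adjunction (R := R)).counit.app ((Scheme.Modules.restrictFunctor i).obj V))) ?_).trans
    (Arrow.isoMk' u' ((Scheme.Modules.pullback i).map u)
      ((Scheme.Modules.restrictFunctorIsoPullback i).app F)
      ((Scheme.Modules.restrictFunctorIsoPullback i).app V) ?_)⟩
  · exact ((tilde.adjunction (R := R)).counit.naturality u').symm
  · exact ((Scheme.Modules.restrictFunctorIsoPullback i).hom.naturality u).symm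

open scoped ChangeOfRings in
/-- A retraction up to a scalar splits after inverting the scalar. -/
theorem splitMono_of_isUnit {R T : CommRingCat.{u}} (g : R ⟶ T) {M N : ModuleCat.{u} R} (φ : M ⟶ N) (h₀ : R)
    (hu : IsUnit (g.hom h₀)) (ρ : N ⟶ M) (hρ : φ ≫ ρ = h₀ • 𝟙 M) :
    IsSplitMono ((ModuleCat.extendScalars.{_, _, u} g.hom).map φ) := by
  obtain ⟨v, hv⟩ := hu.exists_left_inv
  refine IsSplitMono.mk' ⟨v • (ModuleCat.extendScalars.{_, _, u} g.hom).map ρ, ?_⟩
  rw [Linear.comp_smul, ← Functor.map_comp, hρ]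
  apply ModuleCat.ExtendScalars.hom_ext
  intro m
  letI := g.hom.toAlgebra
  show v • ((1 : T) ⊗ₜ[R, g.hom] (h₀ • m) : (ModuleCat.extendScalars.{_, _, u} g.hom).obj M) =
    (1 : T) ⊗ₜ[R, g.hom] m
  have h1 : ((1 : T) ⊗ₜ[R, g.hom] (h₀ • m) : (ModuleCat.extendScalars.{_, _, u} g.hom).obj M) =
      (g.hom h₀ * 1) ⊗ₜ[R, g.hom] m := (TensorProduct.smul_tmul _ _ _).symm
  rw [h1, ModuleCat.ExtendScalars.smul_tmul, mul_one, hv]

theorem exists_splitAlong_open (hF : Coh.IsQCoh F) (hFt : CohB1.IsFT F) (hV : FlatMod.IsFinLocFree V) (y : X)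
    {K : Type u} [Field K] (j : Spec (CommRingCat.of K) ⟶ X) (hy : y ∈ Set.range j) (h : SplitAlong u j) :
    ∃ U : X.Opens, y ∈ U ∧ SplitAlong u U.ι := by
  obtain ⟨W, n, hyW, ⟨e⟩⟩ := hV y
  obtain ⟨A, hA, hyA, hAW⟩ := exists_isAffineOpen_mem_and_subset (X := X) (x := y) (U := W) hyW
  let R := Γ(X, A)
  let i : Spec R ⟶ X := hA.fromSpec
  let Fi := F.restrict i
  let Vi := V.restrict i
  let M₀ : ModuleCat.{u} R := moduleSpecΓFunctor.obj Fi
  let N₀ : ModuleCat.{u} R := moduleSpecΓFunctor.obj Vi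
  haveI : Module.Finite R M₀ := by
    haveI := QCoh.finite_of_isFT hF hFt hA
    exact Module.Finite.equiv (QCoh.chartEquiv hA F)
  obtain ⟨lN⟩ := QCoh.exists_linearEquiv_of_freeIso (QCoh.freeChart hA hAW e)
  haveI : Module.Free R N₀ := Module.Free.of_equiv lN.symm
  haveI : Module.Finite R N₀ := Module.Finite.equiv lN.symm
  let φ : M₀ ⟶ N₀ := moduleSpecΓFunctor.map ((Scheme.Modules.restrictFunctor i).map u)
  obtain ⟨a⟩ := exists_arrowIso u i hF (QCoh.isQCoh_of_isFinLocFree hV)
  have hr : Set.range j ⊆ Set.range i := by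
    rintro _ ⟨t, rfl⟩
    obtain ⟨t', rfl⟩ := hy
    rw [hA.range_fromSpec, Subsingleton.elim t t']
    exact hyA
  obtain ⟨g, hg⟩ := Spec.map_surjective (IsOpenImmersion.lift i j hr)
  have hgi : Spec.map g ≫ i = j := by rw [hg, IsOpenImmersion.lift_fac]
  have h1 : SplitAlong (tilde.map φ) (Spec.map g) :=
    splitMono_of_arrowIso ((Scheme.Modules.pullback (Spec.map g)).mapArrow.mapIso a.symm)
      ((splitAlong_comp_iff u (Spec.map g) i).1 (SplitAlong.congr u hgi.symm h))
  obtain ⟨⟨r, hr'⟩⟩ := ((splitMono_tilde_extendScalars_iff g φ).1 h1).exists_splitMono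
  letI : Algebra R K := g.hom.toAlgebra
  have hinj : Function.Injective (φ.hom.lTensor K) :=
    Function.LeftInverse.injective (g := r.hom) fun z => congrArg (fun w => w.hom z) hr'
  let P := RingHom.ker (algebraMap R K)
  haveI : P.IsPrime := RingHom.ker_isPrime _
  obtain ⟨h₀, hh₀, ρ, hρ⟩ := exists_smul_retraction φ.hom P (K := K) rfl hinj
  let Rh : CommRingCat.{u} := CommRingCat.of (Localization.Away h₀)
  let gh : R ⟶ Rh := CommRingCat.ofHom (algebraMap R (Localization.Away h₀))
  haveI : IsOpenImmersion (Spec.map gh) := IsOpenImmersion.of_isLocalization h₀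
  have h2 : IsSplitMono ((ModuleCat.extendScalars.{_, _, u} gh.hom).map φ) :=
    splitMono_of_isUnit (R := R) gh (M := M₀) (N := N₀) φ h₀
      (IsLocalization.Away.algebraMap_isUnit (S := Localization.Away h₀) h₀)
      (ModuleCat.ofHom (R := R) (X := N₀) (Y := M₀) ρ) (ModuleCat.hom_ext hρ)
  have h3 : SplitAlong u (Spec.map gh ≫ i) :=
    (splitAlong_comp_iff u (Spec.map gh) i).2 (splitMono_of_arrowIso
      ((Scheme.Modules.pullback (Spec.map gh)).mapArrow.mapIso a)
      ((splitMono_tilde_extendScalars_iff gh φ).2 h2))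
  refine ⟨(Spec.map gh ≫ i).opensRange, ?_, h3.of_range u _ subset_rfl⟩
  obtain ⟨t, rfl⟩ := hy
  let p := Spec.map g t
  have hp : p ∈ Set.range (Spec.map gh) := by
    refine (PrimeSpectrum.localization_away_comap_range (Localization.Away h₀) h₀).ge ?_
    show h₀ ∉ p.asIdeal
    intro hmem
    refine hh₀ ?_
    have : g.hom h₀ ∈ t.asIdeal := hmem
    rw [show t.asIdeal = ⊥ from (Ideal.eq_bot_or_top _).resolve_right t.isPrime.ne_top] at this
    exact this
  obtain ⟨q, hq⟩ := hp
  refine ⟨q, ?_⟩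
  rw [Scheme.Hom.comp_apply, hq, ← hgi]
  rfl

end Groth.Agent.SplitFib17
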